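import Groth.Agent.QC70.Deligne
import Groth.Agent.QC70.Closure
import Groth.Agent.DCX42.Coh

/-!
# Artin-Rees for complexes of coherent sheaves
-/

set_option autoImplicit false
set_option backward.isDefEq.respectTransparency.types false

universe u

open CategoryTheory Limits AlgebraicGeometry TopologicalSpace Opposite

namespace Groth.Agent.An92.DelAR

open Groth.Agent.QC70

/-- Artin-Rees with truncated exponents. -/
theorem exists_artinRees {A M : Type*} [CommRing A] [IsNoetherianRing A] [AddCommGroup M] [Module A M]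
    [Module.Finite A M] (J : Ideal A) (N : Submodule A M) :
    ∃ c : ℕ, ∀ c', c ≤ c' → ∀ n, J ^ n • (⊤ : Submodule A M) ⊓ N ≤ J ^ (n - c') • N := by
  obtain ⟨k, hk⟩ := J.exists_pow_inf_eq_pow_smul N
  refine ⟨k, fun c' hc n => ?_⟩
  by_cases hn : k ≤ n
  · rw [hk n hn]
    exact (smul_mono_right _ inf_le_right).trans
      (Submodule.smul_mono_left (Ideal.pow_le_pow_right (by omega)))
  · rw [show n - c' = 0 by omega, pow_zero, Ideal.one_eq_top, Submodule.top_smul]
    exact inf_le_right

variable {X : Scheme.{u}}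

/-- An epimorphism of quasi-coherent modules is surjective on affine opens. -/
theorem app_surjective_of_epi {M N : X.Modules} (φ : M ⟶ N) [Epi φ] [M.IsQuasicoherent] [N.IsQuasicoherent]
    {U : X.Opens} (hU : IsAffineOpen U) : Function.Surjective (φ.app U) := by
  let S := ShortComplex.mk (kernel.ι φ) φ (kernel.condition φ)
  have hS : S.ShortExact :=
    { exact := ShortComplex.exact_of_f_is_kernel _ (kernelIsKernel φ)
      mono_f := (inferInstance : Mono (kernel.ι φ))
      epi_g := (inferInstance : Epi φ) }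
  haveI : S.X₁.IsQuasicoherent := isQuasicoherent_kernel φ
  exact app_surjective_of_isAffineOpen S hS hU

variable (I : X.IdealSheafData)

theorem ideal_pow_eq (n : ℕ) (U : X.affineOpens) : (I ^ n).ideal U = I.ideal U ^ n := by
  rw [Scheme.IdealSheafData.ideal_pow, Pi.pow_apply]

/-- Sections of `I^n G` on an affine open. -/
theorem mem_pow_iff (n : ℕ) (G : X.Modules) [G.IsQuasicoherent] (U : X.affineOpens) (x : Γ(G, U.1)) :
    (∃ c, (Dual3.idealMulι (I ^ n) G).app U.1 c = x) ↔
      x ∈ I.ideal U ^ n • (⊤ : Submodule Γ(X, U.1) Γ(G, U.1)) := by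
  rw [mem_idealMul_iff, ideal_pow_eq]

/-- The inclusions `I^b G ⟶ I^a G` for `a ≤ b`. -/
theorem exists_le_incl (G : X.Modules) [G.IsQuasicoherent] {a b : ℕ} (h : a ≤ b) :
    ∃ κ : (Dual3.idealMul (I ^ b)).obj G ⟶ (Dual3.idealMul (I ^ a)).obj G,
      κ ≫ Dual3.idealMulι (I ^ a) G = Dual3.idealMulι (I ^ b) G := by
  refine exists_lift_of_mono _ _ (fun W : X.affineOpens => W.1) (iSup_affineOpens_eq_top X)
    (fun W => W.2) (fun W => isLocAt_idealMul _ _ W.2) fun W x => ?_
  refine (mem_pow_iff I a G W _).mpr ?_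
  exact Submodule.smul_mono_left (Ideal.pow_le_pow_right h) ((mem_pow_iff I b G W _).mp ⟨x, rfl⟩)

/-- The range of a linear map and the powers of an ideal. -/
theorem map_smul_top {A M N : Type*} [CommRing A] [AddCommGroup M] [Module A M] [AddCommGroup N] [Module A N]
    (f : M →ₗ[A] N) (J : Ideal A) :
    Submodule.map f (J • (⊤ : Submodule A M)) = J • LinearMap.range f := by
  rw [Submodule.map_smul'', Submodule.map_top]

variable (F : CochainComplex X.Modules ℤ) (p : ℤ)

/-- The bound `c` works at the affine open `W`. -/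
def GoodAt (W : X.affineOpens) (c : ℕ) : Prop :=
  ∀ n,
    (I.ideal W ^ n • ⊤ ⊓ LinearMap.range (appLinear (F.iCycles p) W.1) ≤
      I.ideal W ^ (n - c) • LinearMap.range (appLinear (F.iCycles p) W.1)) ∧
    (I.ideal W ^ n • ⊤ ⊓ LinearMap.range (appLinear (F.d (p - 1) p) W.1) ≤
      I.ideal W ^ (n - c) • LinearMap.range (appLinear (F.d (p - 1) p) W.1))

theorem exists_cover_bound [IsNoetherian X] (hFc : ∀ q : ℤ, Coh.IsCoh (F.X q)) :
    ∃ (T : Set X.affineOpens) (c : ℕ), 0 < c ∧ (⨆ W : T, (W.1 : X.Opens)) = ⊤ ∧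
      ∀ W ∈ T, GoodAt I F p W c := by
  obtain ⟨T, hTfin, hTcov⟩ := isCompact_and_isOpen_iff_finite_and_eq_biUnion_affineOpens.mp
    ⟨(isCompact_univ : IsCompact (Set.univ : Set X)), isOpen_univ⟩
  have hex : ∀ W : X.affineOpens, ∃ c, ∀ c', c ≤ c' → GoodAt I F p W c' := by
    intro W
    have := IsLocallyNoetherian.component_noetherian W
    haveI := (hFc p).1
    haveI := (hFc p).2
    have := finite_sections_of_isFiniteType (F.X p) W.2
    obtain ⟨c1, h1⟩ := exists_artinRees (I.ideal W) (LinearMap.range (appLinear (F.iCycles p) W.1))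
    obtain ⟨c2, h2⟩ := exists_artinRees (I.ideal W) (LinearMap.range (appLinear (F.d (p - 1) p) W.1))
    exact ⟨max c1 c2, fun c' hc n => ⟨h1 c' (le_of_max_le_left hc) n, h2 c' (le_of_max_le_right hc) n⟩⟩
  choose c hc using hex
  refine ⟨T, hTfin.toFinset.sup c + 1, by omega, ?_, fun W hW => hc W _ ?_⟩
  · ext1
    simpa using hTcov.symm
  · exact (Finset.le_sup (f := c) (hTfin.mem_toFinset.2 hW)).trans (Nat.le_succ _)

variable {F p}

theorem main [IsNoetherian X] (hFc : ∀ q : ℤ, Coh.IsCoh (F.X q)) :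
    ∃ (c : ℕ) (φ : ∀ n : ℕ, ((Dual3.deligne I n).obj F).homology p ⟶
        (Dual3.idealMul (I ^ (n - c))).obj (F.homology p))
      (ψ : ∀ n : ℕ, (Dual3.idealMul (I ^ n)).obj (F.homology p) ⟶
        ((Dual3.deligne I (n - c)).obj F).homology p),
      0 < c ∧
      (∀ n, φ n ≫ Dual3.idealMulι (I ^ (n - c)) (F.homology p) =
        HomologicalComplex.homologyMap (Dual3.deligneι I n F) p) ∧
      (∀ n, ψ n ≫ HomologicalComplex.homologyMap (Dual3.deligneι I (n - c) F) p =
        Dual3.idealMulι (I ^ n) (F.homology p)) ∧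
      ∀ (n : ℕ) (t : (Dual3.deligne I n).obj F ⟶ (Dual3.deligne I (n - c - c)).obj F),
        t ≫ Dual3.deligneι I (n - c - c) F = Dual3.deligneι I n F →
        φ n ≫ ψ (n - c) = HomologicalComplex.homologyMap t p := by
  haveI hF : ∀ q, (F.X q).IsQuasicoherent := fun q => (hFc q).1
  haveI hD : ∀ (m : ℕ) (q : ℤ), (((Dual3.deligne I m).obj F).X q).IsQuasicoherent := fun m q =>
    isQuasicoherent_idealMul (I ^ m) (F.X q)
  have hcyc : ∀ E : CochainComplex X.Modules ℤ, (∀ q, (E.X q).IsQuasicoherent) →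
      (E.cycles p).IsQuasicoherent := fun E hE => by
    haveI := hE p
    haveI := hE (p + 1)
    exact isQuasicoherent_of_iso ((E.cyclesIsKernel p (p + 1) (by simp)).conePointUniqueUpToIso
      (kernelIsKernel (E.d p (p + 1)))).symm (isQuasicoherent_kernel _)
  haveI hZ : (F.cycles p).IsQuasicoherent := hcyc F hF
  haveI hH : (F.homology p).IsQuasicoherent := DCX42.isQCoh_homology F hF p
  obtain ⟨T, c, hc0, hcov, hgood⟩ := exists_cover_bound I F p hFc
  have hmem : ∀ (W : X.affineOpens) (m : ℕ) {G : X.Modules} (x : Γ((Dual3.idealMul (I ^ m)).obj G, W.1))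
      [G.IsQuasicoherent], (Dual3.idealMulι (I ^ m) G).app W.1 x ∈
        I.ideal W ^ m • (⊤ : Submodule Γ(X, W.1) Γ(G, W.1)) :=
    fun W m G x _ => (mem_pow_iff I m G W _).mp ⟨x, rfl⟩
  -- cycles of `I^n F` land in `I^(n-c) Z`
  have hlam : ∀ n, ∃ l : ((Dual3.deligne I n).obj F).cycles p ⟶
      (Dual3.idealMul (I ^ (n - c))).obj (F.cycles p),
      l ≫ Dual3.idealMulι (I ^ (n - c)) (F.cycles p) =
        HomologicalComplex.cyclesMap (Dual3.deligneι I n F) p := fun n => by
    haveI := hcyc _ (hD n)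
    refine exists_lift_of_mono _ _ (fun W : T => (W.1 : X.Opens)) hcov (fun W => W.1.2)
      (fun W => isLocAt_of_isQuasicoherent _ W.1.2) fun W x => (mem_pow_iff I _ _ W.1 _).mpr ?_
    let iZ := appLinear (F.iCycles p) W.1.1
    have hx : iZ ((HomologicalComplex.cyclesMap (Dual3.deligneι I n F) p).app W.1.1 x) ∈
        I.ideal W.1 ^ n • ⊤ ⊓ LinearMap.range iZ := by
      refine ⟨?_, LinearMap.mem_range_self _ _⟩
      have e : (F.iCycles p).app W.1.1 ((HomologicalComplex.cyclesMap (Dual3.deligneι I n F) p).app W.1.1 x) =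
          (Dual3.idealMulι (I ^ n) (F.X p)).app W.1.1 ((((Dual3.deligne I n).obj F).iCycles p).app W.1.1 x) :=
        congr((Scheme.Modules.Hom.app $(HomologicalComplex.cyclesMap_i (Dual3.deligneι I n F) p) W.1.1) x)
      exact e ▸ hmem W.1 n _
    have h2 := ((hgood W.1 W.2) n).1 hx
    rw [← map_smul_top] at h2
    obtain ⟨y, hy, hyx⟩ := h2
    exact app_injective_of_mono (F.iCycles p) W.1.1 hyx ▸ hy
  choose lam hlam using hlam
  -- `I^m Z` lands in the cycles of `I^(m-c) F`
  have hmu : ∀ m, ∃ μ : (Dual3.idealMul (I ^ m)).obj (F.cycles p) ⟶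
      ((Dual3.deligne I (m - c)).obj F).cycles p,
      μ ≫ ((Dual3.deligne I (m - c)).obj F).iCycles p ≫ Dual3.idealMulι (I ^ (m - c)) (F.X p) =
        Dual3.idealMulι (I ^ m) (F.cycles p) ≫ F.iCycles p := fun m => by
    obtain ⟨θ, hθ⟩ := exists_le_incl I (F.X p) (show m - c ≤ m by omega)
    let κ := (Dual3.idealMul (I ^ m)).map (F.iCycles p) ≫ θ
    have hκ : κ ≫ Dual3.idealMulι (I ^ (m - c)) (F.X p) =
        Dual3.idealMulι (I ^ m) (F.cycles p) ≫ F.iCycles p := by
      rw [Category.assoc, hθ, Dual3.idealMul_map_ι]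
    refine ⟨((Dual3.deligne I (m - c)).obj F).liftCycles (i := p) κ (p + 1) (by simp) ?_, ?_⟩
    · apply (cancel_mono (Dual3.idealMulι (I ^ (m - c)) (F.X (p + 1)))).1
      show (κ ≫ (Dual3.idealMul (I ^ (m - c))).map (F.d p (p + 1))) ≫ _ = _
      rw [Category.assoc, Dual3.idealMul_map_ι, reassoc_of% hκ, HomologicalComplex.iCycles_d, comp_zero]
      exact zero_comp.symm
    · rw [HomologicalComplex.liftCycles_i_assoc]
      exact hκ
  choose mu hmu using hmu
  have hmu' : ∀ m, mu m ≫ HomologicalComplex.cyclesMap (Dual3.deligneι I (m - c) F) p =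
      Dual3.idealMulι (I ^ m) (F.cycles p) := fun m => by
    rw [← cancel_mono (F.iCycles p), Category.assoc, HomologicalComplex.cyclesMap_i]
    exact hmu m
  -- `I^m Z ⟶ I^m H`
  let pr : ∀ m : ℕ, (Dual3.idealMul (I ^ m)).obj (F.cycles p) ⟶ (Dual3.idealMul (I ^ m)).obj (F.homology p) :=
    fun m => (Dual3.idealMul (I ^ m)).map (F.homologyπ p)
  have hpr : ∀ m, Epi (pr m) := fun m => by
    refine epi_of_locally_surjective _ fun U s x hx => ?_
    obtain ⟨W, hW, hxW, hWU⟩ := exists_isAffineOpen_mem_and_subset (X := X) (x := x) (U := U) hx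
    obtain ⟨z, hz, hzs⟩ : (Dual3.idealMulι (I ^ m) (F.homology p)).app W (res _ hWU s) ∈
        Submodule.map (appLinear (F.homologyπ p) W) (I.ideal ⟨W, hW⟩ ^ m • ⊤) := by
      rw [map_smul_top, (LinearMap.range_eq_top (f := appLinear (F.homologyπ p) W)).2
        (app_surjective_of_epi (F.homologyπ p) hW)]
      exact hmem ⟨W, hW⟩ m _
    obtain ⟨t, rfl⟩ := (mem_pow_iff I m _ ⟨W, hW⟩ z).mpr hz
    refine ⟨W, hWU, t, hxW, app_injective_of_mono (Dual3.idealMulι (I ^ m) (F.homology p)) W ?_⟩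
    refine Eq.trans ?_ hzs
    exact congr((Scheme.Modules.Hom.app $(Dual3.idealMul_map_ι (I ^ m) (F.homologyπ p)) W) t)
  -- boundaries
  have hker : ∀ m, kernel.ι (pr m) ≫ mu m ≫ ((Dual3.deligne I (m - c)).obj F).homologyπ p = 0 := fun m => by
    haveI : ((Dual3.idealMul (I ^ m)).obj (F.cycles p)).IsQuasicoherent := isQuasicoherent_idealMul _ _
    haveI : ((Dual3.idealMul (I ^ m)).obj (F.homology p)).IsQuasicoherent := isQuasicoherent_idealMul _ _
    haveI := isQuasicoherent_kernel (pr m)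
    refine hom_eq_zero_of_cover _ (fun W : T => (W.1 : X.Opens)) hcov (fun W => W.1.2)
      (fun W => isLocAt_of_isQuasicoherent _ W.1.2) fun W x => ?_
    let k := (kernel.ι (pr m)).app W.1.1 x
    let z := (Dual3.idealMulι (I ^ m) (F.cycles p)).app W.1.1 k
    have hπz : (F.homologyπ p).app W.1.1 z = 0 := by
      have h1 : (pr m).app W.1.1 k = 0 :=
        congr((Scheme.Modules.Hom.app $(kernel.condition (pr m)) W.1.1) x)
      refine (congr((Scheme.Modules.Hom.app $(Dual3.idealMul_map_ι (I ^ m) (F.homologyπ p)) W.1.1) k)).symm.trans ?_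
      exact (congrArg ((Dual3.idealMulι (I ^ m) (F.homology p)).app W.1.1) h1).trans (map_zero _)
    obtain ⟨y, hy⟩ : ∃ y, (F.toCycles (p - 1) p).app W.1.1 y = z := by
      let S := ShortComplex.mk (F.toCycles (p - 1) p) (F.homologyπ p) (by simp)
      have hS : S.Exact := ShortComplex.exact_of_g_is_cokernel _
        (F.homologyIsCokernel (p - 1) p (by simp))
      have : Epi (kernel.lift S.g S.f S.zero) := S.exact_iff_epi_kernel_lift.1 hS
      haveI : S.X₁.IsQuasicoherent := hF (p - 1)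
      haveI : (kernel S.g).IsQuasicoherent := isQuasicoherent_kernel (F.homologyπ p)
      obtain ⟨z', hz'⟩ := exists_kernel_app_eq (F.homologyπ p) W.1.1 z hπz
      obtain ⟨y, hy⟩ := app_surjective_of_epi (kernel.lift S.g S.f S.zero) W.1.2 z'
      refine ⟨y, Eq.trans ?_ hz'⟩
      rw [← hy]
      exact (congr((Scheme.Modules.Hom.app $(kernel.lift_ι S.g S.f S.zero) W.1.1) y)).symm
    have hd : (F.d (p - 1) p).app W.1.1 y = (F.iCycles p).app W.1.1 z := by
      rw [← hy]
      exact (congr((Scheme.Modules.Hom.app $(F.toCycles_i (i := p - 1) (j := p)) W.1.1) y)).symm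
    have hmem' : appLinear (F.d (p - 1) p) W.1.1 y ∈
        I.ideal W.1 ^ m • ⊤ ⊓ LinearMap.range (appLinear (F.d (p - 1) p) W.1.1) := by
      refine ⟨?_, LinearMap.mem_range_self _ _⟩
      show (F.d (p - 1) p).app W.1.1 y ∈ _
      rw [hd]
      have : appLinear (F.iCycles p) W.1.1 z ∈ Submodule.map (appLinear (F.iCycles p) W.1.1)
          (I.ideal W.1 ^ m • ⊤) := Submodule.mem_map_of_mem (hmem W.1 m _)
      rw [map_smul_top] at this
      exact SetLike.le_def.1 (smul_mono_right _ le_top) this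
    have h2 := ((hgood W.1 W.2) m).2 hmem'
    rw [← map_smul_top] at h2
    obtain ⟨y', hy', hyd⟩ := h2
    obtain ⟨y'', rfl⟩ := (mem_pow_iff I _ _ W.1 y').mpr hy'
    have key : (mu m).app W.1.1 k = (((Dual3.deligne I (m - c)).obj F).toCycles (p - 1) p).app W.1.1 y'' := by
      apply app_injective_of_mono (((Dual3.deligne I (m - c)).obj F).iCycles p) W.1.1
      apply app_injective_of_mono (Dual3.idealMulι (I ^ (m - c)) (F.X p)) W.1.1
      refine (congr((Scheme.Modules.Hom.app $(hmu m) W.1.1) k)).trans ?_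
      refine hd.symm.trans (hyd.symm.trans ?_)
      refine (congr((Scheme.Modules.Hom.app $(Dual3.idealMul_map_ι (I ^ (m - c)) (F.d (p - 1) p)) W.1.1) y'')).symm.trans ?_
      exact congrArg ((Dual3.idealMulι (I ^ (m - c)) (F.X p)).app W.1.1)
        (congr((Scheme.Modules.Hom.app $(((Dual3.deligne I (m - c)).obj F).toCycles_i (i := p - 1) (j := p)) W.1.1) y'')).symm
    refine (congrArg ((((Dual3.deligne I (m - c)).obj F).homologyπ p).app W.1.1) key).trans ?_
    exact congr((Scheme.Modules.Hom.app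
      $(((Dual3.deligne I (m - c)).obj F).toCycles_comp_homologyπ (p - 1) p) W.1.1) y'')
  let ψ : ∀ m : ℕ, (Dual3.idealMul (I ^ m)).obj (F.homology p) ⟶
      ((Dual3.deligne I (m - c)).obj F).homology p :=
    fun m => haveI := hpr m; Abelian.epiDesc (pr m) _ (hker m)
  have hψ : ∀ m, pr m ≫ ψ m = mu m ≫ ((Dual3.deligne I (m - c)).obj F).homologyπ p := fun m => by
    haveI := hpr m
    exact Abelian.comp_epiDesc _ _ _
  have hφ : ∀ n, HomologicalComplex.homologyMap (Dual3.deligneι I n F) p ≫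
      cokernel.π (Dual3.idealMulι (I ^ (n - c)) (F.homology p)) = 0 := fun n => by
    rw [← cancel_epi (((Dual3.deligne I n).obj F).homologyπ p), comp_zero,
      HomologicalComplex.homologyπ_naturality_assoc, ← hlam n, Category.assoc,
      ← Dual3.idealMul_map_ι_assoc, cokernel.condition, comp_zero, comp_zero]
  let φ : ∀ n : ℕ, ((Dual3.deligne I n).obj F).homology p ⟶ (Dual3.idealMul (I ^ (n - c))).obj (F.homology p) :=
    fun n => Abelian.monoLift (Dual3.idealMulι (I ^ (n - c)) (F.homology p)) _ (hφ n)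
  have hφ' : ∀ n, φ n ≫ Dual3.idealMulι (I ^ (n - c)) (F.homology p) =
      HomologicalComplex.homologyMap (Dual3.deligneι I n F) p := fun n => Abelian.monoLift_comp _ _ _
  refine ⟨c, φ, ψ, hc0, hφ', fun m => ?_, fun n t ht => ?_⟩
  · haveI := hpr m
    rw [← cancel_epi (pr m), reassoc_of% (hψ m), HomologicalComplex.homologyπ_naturality, reassoc_of% (hmu' m)]
    exact (Dual3.idealMul_map_ι (I ^ m) (F.homologyπ p)).symm
  · rw [← cancel_epi (((Dual3.deligne I n).obj F).homologyπ p), HomologicalComplex.homologyπ_naturality]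
    have e : ((Dual3.deligne I n).obj F).homologyπ p ≫ φ n = lam n ≫ pr (n - c) := by
      rw [← cancel_mono (Dual3.idealMulι (I ^ (n - c)) (F.homology p)), Category.assoc, hφ',
        HomologicalComplex.homologyπ_naturality, Category.assoc, Dual3.idealMul_map_ι, reassoc_of% (hlam n)]
    rw [reassoc_of% e, hψ, ← Category.assoc]
    congr 1
    apply (cancel_mono (((Dual3.deligne I (n - c - c)).obj F).iCycles p)).1
    apply (cancel_mono (Dual3.idealMulι (I ^ (n - c - c)) (F.X p))).1
    have ht' := HomologicalComplex.congr_hom ht p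
    simp only [HomologicalComplex.comp_f] at ht'
    erw [Category.assoc, Category.assoc, Category.assoc, hmu, ← Category.assoc, hlam,
      HomologicalComplex.cyclesMap_i, HomologicalComplex.cyclesMap_i_assoc]
    exact congrArg (_ ≫ ·) ht'.symm

end Groth.Agent.An92.DelAR
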